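import Mathlib
import Cfsg.Agent.Lib.LS.SLSp

/-!
# Orbits of `GL(V)` on quadratic forms of rank at least two, and a degree bound for `Sp_{2n}`
-/

set_option autoImplicit false

namespace CfsgLib.LS

open Module QuadraticMap Finset

variable {F V : Type*} [Field F] [AddCommGroup V] [Module F V]

theorem qf_comb (Q : QuadraticForm F V) (x y : V) (s t : F) :
    Q (s • x + t • y) = s ^ 2 * Q x + s * t * polar Q x y + t ^ 2 * Q y := by
  rw [QuadraticMap.map_add Q, Q.map_smul, Q.map_smul, polar_smul_left, polar_smul_right]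
  simp only [smul_eq_mul]; ring

theorem binary_universal [Fintype F] {a b c : F} (h : b ^ 2 - 4 * a * c ≠ 0) (d : F) :
    ∃ s t : F, s ^ 2 * a + s * t * b + t ^ 2 * c = d := by
  by_cases ha : a = 0
  · have hb : b ≠ 0 := by rintro rfl; simp [ha] at h
    exact ⟨(d - c) / b, 1, by rw [ha]; field_simp; ring⟩
  by_cases h2 : (2 : F) = 0
  · have hc : ringChar F = 2 := (Nat.prime_dvd_prime_iff_eq (CharP.char_is_prime F _) Nat.prime_two).1
      ((ringChar.spec F 2).1 (by exact_mod_cast h2))
    obtain ⟨s, hs⟩ := FiniteField.isSquare_of_char_two hc (d / a)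
    exact ⟨s, 0, by rw [pow_two, ← hs]; field_simp; ring⟩
  · obtain ⟨u, t, hu⟩ := FiniteField.exists_root_sum_quadratic
      (f := Polynomial.X ^ 2) (g := Polynomial.C (-(b ^ 2 - 4 * a * c)) * Polynomial.X ^ 2 - Polynomial.C (4 * a * d))
      (Polynomial.degree_X_pow 2)
      (by rw [Polynomial.degree_sub_C (by rw [Polynomial.degree_C_mul_X_pow 2 (neg_ne_zero.2 h)]; decide),
          Polynomial.degree_C_mul_X_pow 2 (neg_ne_zero.2 h)]; rfl)
      (FiniteField.odd_card_of_char_ne_two fun e => h2 (by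
          have := ringChar.Nat.cast_ringChar (R := F)
          rw [e] at this; exact_mod_cast this))
    simp only [Polynomial.eval_mul, Polynomial.eval_C, Polynomial.eval_pow, Polynomial.eval_X,
      Polynomial.eval_sub] at hu
    have h4 : (4 : F) ≠ 0 := by rw [show (4 : F) = 2 * 2 by norm_num]; exact mul_ne_zero h2 h2
    refine ⟨(u - b * t) / (2 * a), t, ?_⟩
    field_simp
    linear_combination hu

theorem card_quadratic_le [Fintype F] [DecidableEq F] {a : F} (ha : a ≠ 0) (b c : F) :
    #{t : F | t ^ 2 * a + t * b + c = 0} ≤ 2 := by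
  let p : Polynomial F := Polynomial.C a * Polynomial.X ^ 2 + Polynomial.C b * Polynomial.X + Polynomial.C c
  have hd : p.natDegree = 2 := Polynomial.natDegree_quadratic ha
  have hp : p ≠ 0 := fun e => by simp [e] at hd
  refine le_trans (card_le_card fun t ht => ?_) ((Multiset.toFinset_card_le p.roots).trans
    (hd ▸ Polynomial.card_roots' p))
  simp only [mem_filter, mem_univ, true_and] at ht
  simp only [Multiset.mem_toFinset, Polynomial.mem_roots hp, Polynomial.IsRoot, p, Polynomial.eval_add,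
    Polynomial.eval_mul, Polynomial.eval_C, Polynomial.eval_pow, Polynomial.eval_X]
  linear_combination ht

/-- the discriminant of `Q` on a pair of vectors -/
def disc (Q : QuadraticForm F V) (x y : V) : F := polar Q x y ^ 2 - 4 * Q x * Q y

theorem notMem_span_of_disc {Q : QuadraticForm F V} {x y : V} (h : disc Q x y ≠ 0) :
    x ≠ 0 ∧ y ∉ F ∙ x := by
  refine ⟨?_, fun hy => ?_⟩
  · rintro rfl; simp [disc] at h
  · obtain ⟨t, rfl⟩ := Submodule.mem_span_singleton.1 hy
    apply h
    simp only [disc, polar_smul_right, polar_self, Q.map_smul, smul_eq_mul, nsmul_eq_mul]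
    push_cast; ring

theorem exists_proj {Q : QuadraticForm F V} {x y : V} (h : disc Q x y ≠ 0) (v : V) :
    ∃ s t : F, polar Q x (v - (s • x + t • y)) = 0 ∧ polar Q y (v - (s • x + t • y)) = 0 := by
  refine ⟨(polar Q x y * polar Q y v - 2 * Q y * polar Q x v) / disc Q x y,
    (polar Q x y * polar Q x v - 2 * Q x * polar Q y v) / disc Q x y, ?_, ?_⟩ <;>
  · simp only [polar_sub_right, polar_add_right, polar_smul_right, polar_self, smul_eq_mul, nsmul_eq_mul,
      polar_comm Q y x]
    field_simp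
    simp only [disc]
    push_cast; ring

variable [FiniteDimensional F V]

theorem exists_equiv_two {x y x' y' : V} (hx : x ≠ 0) (hy : y ∉ F ∙ x) (hx' : x' ≠ 0) (hy' : y' ∉ F ∙ x') :
    ∃ g : V ≃ₗ[F] V, g x' = x ∧ g y' = y := by
  obtain ⟨g, hg⟩ := exists_equiv_vec (F := F) hx hx'
  have hz : g y' ∉ F ∙ x := fun h => hy' (by
    obtain ⟨t, ht⟩ := Submodule.mem_span_singleton.1 h
    rw [← hg, ← map_smul] at ht
    exact g.injective ht ▸ Submodule.smul_mem _ _ (Submodule.mem_span_singleton_self _))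
  have ex : ∀ w, w ∉ F ∙ x → ∃ α : Dual F V, α x = 0 ∧ α w ≠ 0 := fun w hw => by
    obtain ⟨α, h1, h2⟩ := Submodule.exists_dual_map_eq_bot_of_notMem hw inferInstance
    refine ⟨α, ?_, h1⟩
    have : α x ∈ (F ∙ x).map α := Submodule.mem_map_of_mem (Submodule.mem_span_singleton_self _)
    rwa [h2, Submodule.mem_bot] at this
  obtain ⟨φ, h0, h1, h2⟩ : ∃ φ : Dual F V, φ x = 0 ∧ φ y ≠ 0 ∧ φ (g y') ≠ 0 := by
    obtain ⟨α, a0, a1⟩ := ex y hy
    obtain ⟨β, b0, b1⟩ := ex _ hz
    by_cases a2 : α (g y') = 0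
    · by_cases b2 : β y = 0
      · exact ⟨α + β, by simp [a0, b0], by simpa [b2] using a1, by simpa [a2] using b1⟩
      · exact ⟨β, b0, b2, b1⟩
    · exact ⟨α, a0, a1, a2⟩
  obtain ⟨k, hk, -⟩ := exists_dil ((φ (g y'))⁻¹ • φ) (y - g y') (by
    simp only [LinearMap.smul_apply, map_sub, smul_eq_mul]
    rw [inv_mul_cancel₀ h2, add_sub_cancel]
    exact mul_ne_zero (inv_ne_zero h2) h1)
  exact ⟨g.trans k, by simp [hk, hg, h0], by simp [hk, h2]⟩

variable [Fintype F] [Fintype V] [DecidableEq F] [DecidableEq V]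

omit [FiniteDimensional F V] [Fintype F] [DecidableEq F] [DecidableEq V] in
theorem card_ker_mul {W : Type*} [AddCommGroup W] [Module F W] [Fintype W] [DecidableEq W] (f : V →ₗ[F] W)
    (hf : Function.Surjective f) (w : W) : #{v | f v = w} * Fintype.card W = Fintype.card V := by
  have h : ∀ w', #{v | f v = w'} = #{v | f v = w} := fun w' => by
    obtain ⟨a, rfl⟩ := hf w
    obtain ⟨b, rfl⟩ := hf w'
    exact card_bij (fun v _ => v - b + a) (fun v hv => by simp_all) (fun v _ v' _ e => by simpa using e)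
      fun v hv => ⟨v - a + b, by simp_all, by simp⟩
  rw [← card_univ (α := V), card_eq_sum_card_fiberwise (f := f) (s := univ) (t := univ) (by simp)]
  simp [h, mul_comm]

omit [FiniteDimensional F V] [DecidableEq F] in
theorem card_indep_pairs [∀ x : V, DecidablePred (· ∈ F ∙ x)] :
    #{p : V × V | p.1 ≠ 0 ∧ p.2 ∉ F ∙ p.1} = (Fintype.card V - 1) * (Fintype.card V - Fintype.card F) := by
  rw [card_eq_sum_card_fiberwise (f := Prod.fst) (t := univ.erase 0) (fun p hp => by simp_all),
    sum_congr rfl (g := fun _ => Fintype.card V - Fintype.card F), sum_const, card_erase_of_mem (mem_univ _),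
    card_univ, smul_eq_mul]
  intro x hx
  have hx0 : x ≠ 0 := ne_of_mem_erase hx
  have : #{y : V | y ∈ F ∙ x} = Fintype.card F := by
    rw [← card_univ]
    exact (card_bij (fun t _ => t • x) (fun t _ => by simp [Submodule.smul_mem, Submodule.mem_span_singleton_self])
      (fun t _ t' _ e => smul_left_injective F hx0 e) fun y hy => by
        obtain ⟨t, rfl⟩ := Submodule.mem_span_singleton.1 (by simpa using hy)
        exact ⟨t, mem_univ _, rfl⟩).symm
  rw [← this, ← card_univ, ← card_sdiff_of_subset (subset_univ _)]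
  exact card_bij (fun p _ => p.2) (fun p hp => by
    simp only [mem_filter, mem_univ, true_and] at hp
    simpa [← hp.2] using hp.1.2) (fun p hp p' hp' e => by
    simp only [mem_filter] at hp hp'
    exact Prod.ext (hp.2.trans hp'.2.symm) e) fun y hy => ⟨(x, y), by simp_all, rfl⟩

omit [FiniteDimensional F V] [DecidableEq V] in
theorem card_zero_ge {Q : QuadraticForm F V} {x y : V} (h : disc Q x y ≠ 0) :
    Fintype.card V ≤ #{v | Q v = 0} * Fintype.card F ^ 2 := by
  rw [pow_two, ← Fintype.card_prod, ← card_univ (α := F × F), ← card_product, ← card_univ]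
  refine card_le_card_of_surjOn (fun p => p.1 + (p.2.1 • x + p.2.2 • y)) fun v _ => ?_
  obtain ⟨s, t, h1, h2⟩ := exists_proj h v
  obtain ⟨s', t', h3⟩ := binary_universal h (-Q (v - (s • x + t • y)))
  refine ⟨(v - (s • x + t • y) + (s' • x + t' • y), s - s', t - t'), ?_, by simp only; module⟩
  simp only [coe_product, coe_filter, mem_univ, true_and, coe_univ, Set.mem_prod, Set.mem_ofPred_eq,
    Set.mem_univ, and_true]
  rw [QuadraticMap.map_add Q, qf_comb, h3, polar_add_right, polar_smul_right, polar_smul_right,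
    polar_comm Q _ x, polar_comm Q _ y, h1, h2]
  simp

omit [FiniteDimensional F V] in
theorem card_second_le {Q : QuadraticForm F V} {x y : V} (h : disc Q x y ≠ 0) (hx : Q x ≠ 0) :
    #{v | polar Q x v = polar Q x y ∧ Q v = Q y} * Fintype.card F ^ 2 ≤ 2 * Fintype.card V := by
  let z := polar Q x y • x - (2 * Q x) • y
  have hz : polar Q x z = 0 := by
    simp only [z, polar_sub_right, polar_smul_right, polar_self, smul_eq_mul, nsmul_eq_mul]; push_cast; ring
  have hz' : Q z ≠ 0 := by
    have : Q z = -(Q x * disc Q x y) := by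
      rw [show z = polar Q x y • x + (-(2 * Q x)) • y by simp only [z]; module, qf_comb, disc]; ring
    rw [this]; exact neg_ne_zero.2 (mul_ne_zero hx h)
  have hs : Function.Surjective (Q.polarBilin x) := fun c => by
    by_cases hb : polar Q x y = 0
    · have h2 : 2 * Q x ≠ 0 := fun e => h (by rw [disc, hb]; linear_combination (-2 * Q y) * e)
      exact ⟨(c / (2 * Q x)) • x, by
        simp only [polarBilin_apply_apply, polar_smul_right, polar_self, smul_eq_mul, nsmul_eq_mul]
        push_cast; exact div_mul_cancel₀ _ h2⟩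
    · exact ⟨(c / polar Q x y) • y, by
        simp only [polarBilin_apply_apply, polar_smul_right, smul_eq_mul]; field_simp⟩
  rw [← card_ker_mul _ hs (polar Q x y), pow_two, ← mul_assoc, ← mul_assoc]
  refine Nat.mul_le_mul_right _ ?_
  rw [← card_univ, ← card_product]
  refine card_le_mul_card_image_of_maps_to (f := fun p => p.1 + p.2 • z) (fun p hp => ?_) _ fun v _ => ?_
  · simp only [mem_product, mem_filter, mem_univ, true_and, and_true] at hp
    simp [hp.1, hz]
  · refine le_trans (card_le_card_of_injOn (fun p => p.2) (fun p hp => ?_) fun p hp p' hp' e => ?_)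
      (card_quadratic_le hz' (-polar Q v z) (Q v - Q y))
    · simp only [coe_filter, mem_product, mem_filter, mem_univ, true_and, and_true, Set.mem_ofPred_eq] at hp ⊢
      have e : p.1 = (1 : F) • v + (-p.2) • z := by rw [← hp.2]; module
      have := hp.1.2
      rw [e, qf_comb] at this
      linear_combination this
    · simp only [coe_filter, Set.mem_ofPred_eq] at hp hp' e
      refine Prod.ext ?_ e
      have := hp.2.trans hp'.2.symm
      rwa [e, add_left_inj] at this

omit [FiniteDimensional F V] [DecidableEq V] in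
theorem exists_small_value (Q : QuadraticForm F V) :
    ∃ a ≠ 0, (Fintype.card F - 1) * #{v | Q v = a} + #{v | Q v = 0} ≤ Fintype.card V := by
  obtain ⟨a, ha, hm⟩ := exists_min_image (univ.erase (0 : F)) (fun a => #{v | Q v = a}) ⟨1, by simp⟩
  refine ⟨a, ne_of_mem_erase ha, ?_⟩
  rw [← card_univ (α := V), card_eq_sum_card_fiberwise (f := Q) (s := univ) (t := univ) (by simp),
    ← sum_erase_add _ _ (mem_univ 0), ← card_univ, ← card_erase_of_mem (mem_univ (0 : F)), ← smul_eq_mul]
  exact Nat.add_le_add_right (card_nsmul_le_sum _ _ _ hm) _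

omit [DecidableEq V] in
theorem qf_count (O : Finset (QuadraticForm F V))
    (hO : ∀ Q ∈ O, ∀ g : V ≃ₗ[F] V, Q.comp (g : V →ₗ[F] V) ∈ O) {Q : QuadraticForm F V} (hQ : Q ∈ O) {x₀ y₀ : V}
    (h₀ : disc Q x₀ y₀ ≠ 0) :
    (Fintype.card V - 1) * (Fintype.card V - Fintype.card F) ≤ 2 * (Fintype.card F + 1) * #O := by
  classical
  obtain ⟨a, ha, hs⟩ := exists_small_value Q
  obtain ⟨x, y, hx, h⟩ : ∃ x y, Q x = a ∧ disc Q x y ≠ 0 := by
    obtain ⟨s, t, e⟩ := binary_universal h₀ a
    rw [← qf_comb] at e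
    by_cases hs : s = 0
    · have ht : t ≠ 0 := by rintro rfl; simp [hs, ha.symm] at e
      refine ⟨_, x₀, e, fun e' => mul_ne_zero (pow_ne_zero 2 ht) h₀ ?_⟩
      rw [← e', disc, disc, qf_comb, polar_add_left, polar_smul_left, polar_smul_left, polar_comm Q y₀, hs]
      simp only [smul_eq_mul]; ring
    · refine ⟨_, y₀, e, fun e' => mul_ne_zero (pow_ne_zero 2 hs) h₀ ?_⟩
      rw [← e', disc, disc, qf_comb, polar_add_left, polar_smul_left, polar_smul_left, polar_self]
      simp only [smul_eq_mul, nsmul_eq_mul]; push_cast; ring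
  obtain ⟨hx0, hy0⟩ := notMem_span_of_disc h
  have := finite_dual (F := F) (V := V)
  have := Fintype.ofFinite (Dual F V)
  set q := Fintype.card F
  have hq : 1 < q := Fintype.one_lt_card
  let ev : V → V → Dual F V →ₗ[F] F × F := fun x y => (Dual.eval F V x).prod (Dual.eval F V y)
  have evd : ∀ x y f, ev x y f = (f x, f y) := fun _ _ _ => rfl
  have hev : ∀ x' y', x' ≠ 0 → y' ∉ F ∙ x' → #{f | ev x' y' f = 0} * q ^ 2 = Fintype.card V := by
    intro x' y' h1 h2
    rw [pow_two, ← Fintype.card_prod, card_ker_mul, ← Nat.card_eq_fintype_card, card_dual, Nat.card_eq_fintype_card]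
    obtain ⟨g, g1, g2⟩ := exists_equiv_two hx0 hy0 h1 h2
    rintro ⟨c, d⟩
    refine ⟨((polar Q x y * d - 2 * Q y * c) / disc Q x y) • Q.polarBilin x ∘ₗ g +
      ((polar Q x y * c - 2 * Q x * d) / disc Q x y) • Q.polarBilin y ∘ₗ g, Prod.ext ?_ ?_⟩ <;>
    · simp only [evd, LinearMap.add_apply, LinearMap.smul_apply,
        LinearMap.comp_apply, LinearEquiv.coe_coe, g1, g2, polarBilin_apply_apply, polar_self, smul_eq_mul,
        nsmul_eq_mul, polar_comm Q y x]
      field_simp
      simp only [disc]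
      push_cast; ring
  obtain ⟨z, hz⟩ : ∃ z, Fintype.card V = z * q ^ 2 := ⟨_, (hev x y hx0 hy0).symm⟩
  have hz0 : 0 < z := Nat.pos_of_ne_zero (by rintro rfl; simp at hz)
  have hq2 : 0 < q ^ 2 := by positivity
  have hN : #{v | Q v = a} ≤ (q + 1) * z := by
    have h1 := Nat.le_of_mul_le_mul_right (hz ▸ card_zero_ge h) hq2
    obtain ⟨k, hk⟩ := Nat.exists_eq_add_of_lt hq
    rw [hz, hk, show 1 + k + 1 - 1 = k + 1 by omega] at hs
    refine Nat.le_of_mul_le_mul_left (c := k + 1) ?_ (by omega)
    rw [hk]; nlinarith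
  let O' : Finset (QuadraticForm F V) := {Q' ∈ O | ∃ g : V ≃ₗ[F] V, Q' = Q.comp (g : V →ₗ[F] V)}
  have key := card_mul_le_card_mul (s := ({p : V × V | p.1 ≠ 0 ∧ p.2 ∉ F ∙ p.1} : Finset _)) (t := O')
    (fun p (Q' : QuadraticForm F V) => Q' p.1 = a ∧ polar Q' p.1 p.2 = polar Q x y ∧ Q' p.2 = Q y) (m := z * z) (n := (q + 1) * z * (2 * z))
    (fun p hp => ?_) fun Q' hQ' => ?_
  · rw [card_indep_pairs] at key
    have := card_filter_le O fun Q' => ∃ g : V ≃ₗ[F] V, Q' = Q.comp (g : V →ₗ[F] V)
    refine Nat.le_of_mul_le_mul_right (key.trans ?_) (mul_pos hz0 hz0)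
    calc _ ≤ #O * ((q + 1) * z * (2 * z)) := Nat.mul_le_mul_right _ this
      _ = 2 * (q + 1) * #O * (z * z) := by ring
  · simp only [mem_filter, mem_univ, true_and] at hp
    obtain ⟨g, g1, g2⟩ := exists_equiv_two hx0 hy0 hp.1 hp.2
    have hA : #{f | ev p.1 p.2 f = 0} = z := Nat.eq_of_mul_eq_mul_right hq2 ((hev _ _ hp.1 hp.2).trans hz)
    rw [← hA, ← card_product]
    have hu : ∀ f : Dual F V × Dual F V, ev p.1 p.2 f.1 = 0 → ev p.1 p.2 f.2 = 0 →
        ∃ u : V ≃ₗ[F] V, ∀ v, u v = g v + f.1 v • x + f.2 v • y := fun f h1 h2 => by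
      simp only [evd, Prod.mk_eq_zero] at h1 h2
      obtain ⟨k, hk, -⟩ := exists_dil f.1 p.1 (by simp [h1.1])
      obtain ⟨k', hk', -⟩ := exists_dil f.2 p.2 (by simp [h2.2])
      exact ⟨k.trans (k'.trans g), fun v => by simp [hk, hk', h2.1, g1, g2]⟩
    choose! u hu using hu
    refine card_le_card_of_injOn (fun f => Q.comp (u f : V →ₗ[F] V)) (fun f hf => ?_) fun f hf f' hf' e => ?_
    · simp only [coe_product, coe_filter, mem_univ, true_and, Set.mem_prod, Set.mem_ofPred_eq] at hf
      have h3 := hu f hf.1 hf.2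
      simp only [evd, Prod.mk_eq_zero] at hf
      have e1 : u f p.1 = x := by simp [h3, hf, g1]
      have e2 : u f p.2 = y := by simp [h3, hf, g2]
      simp only [bipartiteAbove, coe_filter, Set.mem_ofPred_eq, O', mem_filter]
      refine ⟨⟨hO Q hQ _, _, rfl⟩, by simp [e1, hx], ?_, by simp [e2]⟩
      simp [polar, e1, e2]
    · simp only [coe_product, coe_filter, mem_univ, true_and, Set.mem_prod, Set.mem_ofPred_eq] at hf hf'
      have h3 := hu f hf.1 hf.2
      have h4 := hu f' hf'.1 hf'.2
      simp only [evd, Prod.mk_eq_zero] at hf hf'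
      have e0 : ∀ w v, polar Q (u f w) (u f v) = polar Q (u f' w) (u f' v) := fun w v => by
        have := congrArg (fun Q' : QuadraticForm F V => polar Q' w v) e
        simpa [polar] using this
      have e3 : ∀ v, f.1 v = f'.1 v ∧ f.2 v = f'.2 v := fun v => by
        have e1 := e0 p.1 v
        have e2 := e0 p.2 v
        simp only [h3, h4, hf, hf', g1, g2, zero_smul, add_zero, polar_add_right, polar_smul_right, polar_self,
          smul_eq_mul, nsmul_eq_mul, polar_comm Q y x] at e1 e2
        push_cast at e1 e2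
        exact ⟨mul_left_cancel₀ h (by rw [disc]; linear_combination polar Q x y * e2 - 2 * Q y * e1),
          mul_left_cancel₀ h (by rw [disc]; linear_combination polar Q x y * e1 - 2 * Q x * e2)⟩
      exact Prod.ext (LinearMap.ext fun v => (e3 v).1) (LinearMap.ext fun v => (e3 v).2)
  · obtain ⟨-, g, rfl⟩ := mem_filter.1 hQ'
    rw [mul_comm]
    refine (card_le_mul_card_image_of_maps_to (f := fun p => g p.1) (t := {v | Q v = a})
      (fun p hp => ?_) (2 * z) fun v _ => ?_).trans (Nat.mul_le_mul_left _ hN)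
    · simp only [bipartiteBelow, mem_filter] at hp
      simpa using hp.2.1
    · have pc : ∀ a b, polar (Q.comp (g : V →ₗ[F] V)) a b = polar Q (g a) (g b) := fun a b => by simp [polar]
      have hm : ∀ p : V × V, p ∈ filter (fun p : V × V => g p.1 = v) (bipartiteBelow
          (fun p (Q' : QuadraticForm F V) => Q' p.1 = a ∧ polar Q' p.1 p.2 = polar Q x y ∧ Q' p.2 = Q y)
          {p | p.1 ≠ 0 ∧ p.2 ∉ F ∙ p.1} (Q.comp (g : V →ₗ[F] V))) →
          g p.1 = v ∧ Q v = a ∧ polar Q v (g p.2) = polar Q x y ∧ Q (g p.2) = Q y := fun p hp => by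
        obtain ⟨h1, h2⟩ := mem_filter.1 hp
        obtain ⟨-, h3, h4, h5⟩ := mem_filter.1 h1
        rw [pc] at h4
        exact ⟨h2, h2 ▸ h3, h2 ▸ h4, h5⟩
      rcases eq_empty_or_nonempty (filter (fun p : V × V => g p.1 = v) _) with e | ⟨p, hp⟩
      · rw [e]; simp
      obtain ⟨-, p1, p2, p3⟩ := hm p hp
      have := card_second_le (Q := Q) (x := v) (y := g p.2) (by rwa [disc, p1, p2, p3, ← hx]) (p1 ▸ ha)
      rw [hz, ← mul_assoc] at this
      refine le_trans (card_le_card_of_injOn (fun p => g p.2) (fun p' hp' => ?_) fun p' hp' p'' hp'' e => ?_)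
        (Nat.le_of_mul_le_mul_right this hq2)
      · obtain ⟨-, -, q2, q3⟩ := hm p' hp'
        simp [p2, p3, q2, q3]
      · exact Prod.ext (g.injective ((hm _ hp').1.trans (hm _ hp'').1.symm)) (g.injective e)

section Sp

open Matrix

variable {K W F l : Type*} [Field K] [AddCommGroup W] [Module K W] [Field F] [Fintype l] [DecidableEq l]

/-- symmetric matrices -/
def symS (l F : Type*) [Field F] : Submodule F (Matrix l l F) where
  carrier := {M | Mᵀ = M}
  add_mem' {a b} ha hb := by
    simp only [Set.mem_ofPred_eq] at *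
    rw [transpose_add, ha, hb]
  zero_mem' := transpose_zero
  smul_mem' c a ha := by
    simp only [Set.mem_ofPred_eq] at *
    rw [transpose_smul, ha]

/-- the Siegel radical -/
def spS (S : symS l F) : symplecticGroup l F :=
  ⟨fromBlocks 1 S.1 0 1, by
    have : S.1ᵀ = S.1 := S.2
    rw [SymplecticGroup.mem_iff]
    simp only [J, fromBlocks_multiply, fromBlocks_transpose]
    simp [this]⟩

theorem spS_add (S T : symS l F) : spS (S + T) = spS S * spS T :=
  Subtype.ext (by simp [spS, fromBlocks_multiply, add_comm])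

/-- the action of a matrix on symmetric matrices -/
def symAct (A : Matrix l l F) : symS l F →ₗ[F] symS l F where
  toFun S := ⟨A * S.1 * Aᵀ, by
    have : S.1ᵀ = S.1 := S.2
    change _ᵀ = _
    simp [this, Matrix.mul_assoc]⟩
  map_add' S T := Subtype.ext (by simp [Matrix.mul_add, Matrix.add_mul])
  map_smul' c S := Subtype.ext (by simp)

theorem spD_conj_spS (g : (l → F) ≃ₗ[F] (l → F)) (S : symS l F) :
    spD g * spS S * (spD g)⁻¹ = spS (symAct (LinearMap.toMatrix' (g : (l → F) →ₗ[F] (l → F))) S) := by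
  rw [mul_inv_eq_iff_eq_mul]
  refine Subtype.ext ?_
  simp [spD, spS, symAct, fromBlocks_multiply, Matrix.mul_assoc, ← transpose_mul, toMatrix'_symm_mul]

/-- the square of a vector -/
def sqS (x : l → F) : symS l F := ⟨vecMulVec x x, transpose_vecMulVec x x⟩

/-- the symmetrised product of two vectors -/
def prS (x y : l → F) : symS l F :=
  ⟨vecMulVec x y + vecMulVec y x, by change _ᵀ = _; simp [add_comm]⟩

omit [Fintype l] [DecidableEq l] in
theorem sqS_add (x y : l → F) : sqS (x + y) = sqS x + sqS y + prS x y :=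
  Subtype.ext (by simp only [sqS, prS, add_vecMulVec, vecMulVec_add, Submodule.coe_add]; abel)

/-- the quadratic form of a functional on the symmetric matrices -/
def qOf (φ : Dual F (symS l F)) : QuadraticForm F (l → F) where
  toFun x := φ (sqS x)
  toFun_smul a x := by
    rw [← map_smul]; congr 1; exact Subtype.ext (by simp [sqS, smul_smul])
  exists_companion' := ⟨LinearMap.mk₂ F (fun x y => φ (prS x y))
    (fun x x' y => by
      rw [← map_add]; congr 1
      exact Subtype.ext (by simp only [prS, add_vecMulVec, vecMulVec_add, Submodule.coe_add]; abel))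
    (fun c x y => by rw [← map_smul]; congr 1; exact Subtype.ext (by simp [prS]))
    (fun x y y' => by
      rw [← map_add]; congr 1
      exact Subtype.ext (by simp only [prS, add_vecMulVec, vecMulVec_add, Submodule.coe_add]; abel))
    (fun c x y => by rw [← map_smul]; congr 1; exact Subtype.ext (by simp [prS])),
    fun x y => by simp [sqS_add]⟩

omit [Fintype l] [DecidableEq l] in
theorem qOf_apply (φ : Dual F (symS l F)) (x : l → F) : qOf φ x = φ (sqS x) := rfl

omit [Fintype l] [DecidableEq l] in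
theorem polar_qOf (φ : Dual F (symS l F)) (x y : l → F) : polar (qOf φ) x y = φ (prS x y) := by
  simp only [polar, qOf_apply, sqS_add, map_add]; abel

theorem qOf_comp (φ : Dual F (symS l F)) (g : (l → F) ≃ₗ[F] (l → F)) : (qOf φ).comp (g : (l → F) →ₗ[F] (l → F)) =
    qOf (φ ∘ₗ symAct (LinearMap.toMatrix' (g : (l → F) →ₗ[F] (l → F)))) := by
  ext x
  change φ (sqS (g x)) = φ (symAct _ (sqS x))
  congr 1
  exact Subtype.ext (by simp [sqS, symAct, mul_vecMulVec, vecMulVec_mul, vecMul_transpose])

theorem sp_rank_two_bound [Fintype F] [FiniteDimensional K W] (ρ : symplecticGroup l F →* End K W) {ψ : F → K}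
    (hψ : IsChar ψ) {φ : Dual F (symS l F)} (hφ : (fun S => ψ (φ S)) ∈ wts (fun S => ρ (spS S)) 1)
    {x y : l → F} (h : disc (qOf φ) x y ≠ 0) :
    (Fintype.card F ^ Fintype.card l - 1) * (Fintype.card F ^ Fintype.card l - Fintype.card F) ≤
      2 * (Fintype.card F + 1) * finrank K W := by
  classical
  have := finite_dual (F := F) (V := symS l F)
  have := Fintype.ofFinite (Dual F (symS l F))
  let P : Finset (Dual F (symS l F)) := {φ | (fun S => ψ (φ S)) ∈ wts (fun S => ρ (spS S)) 1}
  have h1 := qf_count (P.image qOf) (fun Q hQ g => ?_) (mem_image_of_mem _ (by simpa [P] using hφ)) h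
  · rw [Fintype.card_fun] at h1
    refine h1.trans (Nat.mul_le_mul_left _ (card_image_le.trans ?_))
    simpa using card_mul_le (fun S => ρ (spS S)) 1 (fun φ : P => fun S => ψ (φ.1 S))
      (fun φ φ' e => Subtype.ext (hψ.dual_ext (congrFun e))) fun φ => (mem_filter.1 φ.2).2
  · obtain ⟨φ', h', rfl⟩ := mem_image.1 hQ
    rw [qOf_comp]
    exact mem_image_of_mem _ (mem_filter.2 ⟨mem_univ _,
      mem_wts_conj ρ spS (mem_filter.1 h').2 (spD g) _ (spD_conj_spS g)⟩)

theorem exists_sp_weight [Finite F] [IsAlgClosed K] [FiniteDimensional K W] (hK : ringChar K ≠ ringChar F)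
    (ρ : symplecticGroup l F →* End K W) {S₀ : symS l F} (h₀ : ρ (spS S₀) ≠ 1) :
    ∃ (ψ : F → K) (φ : Dual F (symS l F)), IsChar ψ ∧ (fun S => ψ (φ S)) ∈ wts (fun S => ρ (spS S)) 1 ∧ φ S₀ ≠ 0 := by
  obtain ⟨w, hl, hl0⟩ := exists_weight_ne_one (fun S => ρ (spS S))
    (fun x y => by rw [Commute, SemiconjBy, ← map_mul, ← map_mul, ← spS_add, ← spS_add, add_comm])
    (natCast_ringChar_ne_zero hK) (fun x => by rw [← map_pow, pow_ringChar spS_add, map_one]) h₀
  obtain ⟨v, hv0, hv⟩ := mem_wts_one.1 hl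
  have ha : ∀ x y, w (x + y) = w x * w y := fun x y => weight_mul hv0 hv (by rw [spS_add, map_mul])
  have h1 : w 0 = 1 := weight_one hv0 hv (by rw [eq_one_of_add (V := symS l F) spS_add, map_one])
  have hψ : IsChar fun t : F => w (t • S₀) :=
    ⟨fun s t => by rw [add_smul, ha], by rw [zero_smul, h1], 1, by rwa [one_smul]⟩
  obtain ⟨φ, hφ⟩ := hψ.exists_dual ha h1
  exact ⟨_, φ, hψ, by rwa [← funext hφ], fun e => hl0 (by rw [hφ, e, hψ.zero])⟩

theorem sp_bound_even [Fintype F] [IsAlgClosed K] [FiniteDimensional K W] (hK : ringChar K ≠ ringChar F)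
    (h2 : (2 : F) = 0) {m : ℕ} (hm : 2 ≤ m) (ρ : symplecticGroup (Fin m) F →* End K W)
    (hker : ∀ g, ρ g = 1 → g ∈ Subgroup.center _) :
    (Fintype.card F ^ m - 1) * (Fintype.card F ^ m - Fintype.card F) ≤ 2 * (Fintype.card F + 1) * finrank K W := by
  let i : Fin m := ⟨0, by omega⟩
  let j : Fin m := ⟨1, by omega⟩
  have hij : i ≠ j := by simp [i, j]
  obtain ⟨ψ, φ, hψ, hφ, h0⟩ := exists_sp_weight hK ρ (S₀ := prS (Pi.single i 1) (Pi.single j 1)) fun h => by
    have h3 : (spS (prS (Pi.single i (1 : F)) (Pi.single j 1))).1 (Sum.inl i) (Sum.inr j) = 0 := by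
      rcases Symp.mem_center_iff.1 (hker _ h) with e | e <;> rw [e] <;> simp [Symp.spNegOne]
    simp [spS, prS, vecMulVec_apply, hij, hij.symm] at h3
  simpa using sp_rank_two_bound ρ hψ hφ (x := Pi.single i 1) (y := Pi.single j 1) (by
    rw [disc, polar_qOf, show (4 : F) = 2 * 2 by norm_num, h2]
    simpa using h0)

end Sp

end CfsgLib.LS
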