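import Mathlib
import Cfsg.Agent.Lib.LS.SLSp
import Cfsg.Agent.Lib.CharDeg.Constituent

/-!
# The Weil representation

A basis `b v` of `End W` multiplying like a Heisenberg group, permuted by `G`, together with an
involution `σ` of trace one inverting it, gives an honest representation of `G` on `W` by
intertwiners (normalised by equal determinants on the two eigenspaces of `σ`).
-/

set_option autoImplicit false

namespace CfsgLib.LS

open Module

section Abstract

variable {W V G : Type*} [AddCommGroup W] [Module ℂ W] [FiniteDimensional ℂ W]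
  [AddCommGroup V] [Group G] [DistribMulAction G V]

/-- The data from which the Weil representation is built. -/
structure WeilData (W V G : Type*) [AddCommGroup W] [Module ℂ W] [AddCommGroup V] [Group G]
    [DistribMulAction G V] where
  b : Basis V ℂ (End ℂ W)
  c : V → V → ℂ
  σ : End ℂ W
  b_zero : b 0 = 1
  b_mul : ∀ u v, b u * b v = c u v • b (u + v)
  c_smul : ∀ (g : G) u v, c (g • u) (g • v) = c u v
  σ_sq : σ * σ = 1
  σ_b : ∀ v, σ * b v = b (-v) * σ
  trace_σ : LinearMap.trace ℂ W σ = 1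

namespace WeilData

variable (D : WeilData W V G)

theorem scalar_of_comm {T : End ℂ W} (h : ∀ v, T * D.b v = D.b v * T) : ∃ a : ℂ, T = a • 1 := by
  have : T ∈ Subalgebra.center ℂ (End ℂ W) := Subalgebra.mem_center_iff.2 fun S => by
    have := D.b.ext (f₁ := LinearMap.mulRight ℂ T) (f₂ := LinearMap.mulLeft ℂ T) fun v => (h v).symm
    exact LinearMap.congr_fun this S
  obtain ⟨a, ha⟩ := (Algebra.IsCentral.mem_center_iff ℂ).1 this
  exact ⟨a, by rw [ha, Algebra.algebraMap_eq_smul_one]⟩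

/-- `T` intertwines the basis with its translate under `g`. -/
def Int (g : G) (T : End ℂ W) : Prop := ∀ v, T * D.b v = D.b (g • v) * T

omit [FiniteDimensional ℂ W] in
theorem Int.mul {D : WeilData W V G} {g h : G} {S T : End ℂ W} (hS : D.Int g S) (hT : D.Int h T) :
    D.Int (g * h) (S * T) := fun v => by
  rw [mul_assoc, hT, ← mul_assoc, hS, mul_smul, mul_assoc]

theorem Int.unique {D : WeilData W V G} {g : G} {T T' S : End ℂ W} (hT : D.Int g T)
    (hT' : D.Int g T') (h1 : T * S = 1) (h2 : S * T = 1) : ∃ a : ℂ, T' = a • T := by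
  obtain ⟨a, ha⟩ := D.scalar_of_comm (T := S * T') fun v => by
    calc S * T' * D.b v = S * D.b (g • v) * (T * S) * T' := by
          rw [h1, mul_one, mul_assoc, hT', mul_assoc]
      _ = S * (D.b (g • v) * T) * S * T' := by simp only [mul_assoc]
      _ = _ := by rw [← hT, ← mul_assoc, h2, one_mul, mul_assoc]
  exact ⟨a, by rw [← one_mul T', ← h1, mul_assoc, ha, mul_smul_comm, mul_one]⟩

omit [FiniteDimensional ℂ W] in
theorem exists_int (g : G) : ∃ T S : End ℂ W, T * S = 1 ∧ S * T = 1 ∧ D.Int g T := by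
  let e : End ℂ W ≃ₗ[ℂ] End ℂ W := D.b.equiv D.b (MulAction.toPerm g)
  have he : ∀ v, e (D.b v) = D.b (g • v) := fun v => by simp [e]
  have hm : ∀ x y, e (x * y) = e x * e y := fun x y => by
    have := D.b.ext (f₁ := (LinearMap.mul ℂ (End ℂ W)).compr₂ e.toLinearMap)
      (f₂ := (LinearMap.mul ℂ (End ℂ W)).compl₁₂ e.toLinearMap e.toLinearMap) fun u =>
        D.b.ext fun v => by
          simp [D.b_mul, he, D.c_smul]
    exact LinearMap.congr_fun (LinearMap.congr_fun this x) y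
  obtain ⟨T, hT⟩ := (AlgEquiv.ofLinearEquiv e (by rw [← D.b_zero, he, smul_zero])
    hm).eq_linearEquivConjAlgEquiv
  refine ⟨T, T.symm, by ext; simp, by ext; simp, fun v => ?_⟩
  have := AlgEquiv.congr_fun hT (D.b v)
  rw [AlgEquiv.ofLinearEquiv_apply, he, LinearEquiv.conjAlgEquiv_apply] at this
  rw [this]
  ext; simp

theorem Int.commute {D : WeilData W V G} {g : G} {T S : End ℂ W} (hT : D.Int g T) (h1 : T * S = 1)
    (h2 : S * T = 1) : D.σ * T = T * D.σ := by
  obtain ⟨a, ha⟩ := hT.unique (T' := D.σ * T * D.σ) (fun v => by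
    rw [mul_assoc, D.σ_b, mul_assoc, ← mul_assoc T, hT, ← mul_assoc, ← mul_assoc, D.σ_b, smul_neg,
      neg_neg]
    simp only [mul_assoc]) h1 h2
  have h3 : D.σ * T = a • (T * D.σ) := by
    rw [← smul_mul_assoc, ← ha, mul_assoc, D.σ_sq, mul_one]
  have h4 : D.σ = a • (T * D.σ * S) := by
    rw [← smul_mul_assoc, ← h3, mul_assoc, h1, mul_one]
  have h5 := congrArg (LinearMap.trace ℂ W) h4
  rw [map_smul, LinearMap.trace_mul_comm, ← mul_assoc, h2, one_mul, D.trace_σ, smul_eq_mul,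
    mul_one] at h5
  rw [h3, ← h5, one_smul]

/-- The eigenspace of the involution. -/
abbrev E (ε : ℂ) : Submodule ℂ W := D.σ.eigenspace ε

/-- The commutant of the involution. -/
abbrev C : Subalgebra ℂ (End ℂ W) := Subalgebra.centralizer ℂ {D.σ}

omit [FiniteDimensional ℂ W] in
theorem mem_C {T : End ℂ W} : T ∈ D.C ↔ D.σ * T = T * D.σ := by
  simp [Subalgebra.mem_centralizer_iff]

omit [FiniteDimensional ℂ W] in
theorem mapsTo (T : D.C) (ε : ℂ) : ∀ w ∈ D.E ε, T.1 w ∈ D.E ε := fun w hw => by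
  rw [End.mem_eigenspace_iff] at hw ⊢
  rw [← End.mul_apply, D.mem_C.1 T.2, End.mul_apply, hw, map_smul]

/-- Restriction to an eigenspace. -/
def res (ε : ℂ) : D.C →* End ℂ (D.E ε) where
  toFun T := T.1.restrict (D.mapsTo T ε)
  map_one' := rfl
  map_mul' _ _ := rfl

omit [FiniteDimensional ℂ W] in
theorem res_smul (ε a : ℂ) (T : D.C) : D.res ε (a • T) = a • D.res ε T := rfl

omit [FiniteDimensional ℂ W] in
theorem coe_res (ε : ℂ) (T : D.C) (w : D.E ε) : (D.res ε T w : W) = T.1 w := rfl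

theorem finrank_E {ε : ℂ} (hε : ε * ε = 1) :
    (finrank ℂ (D.E ε) : ℂ) = (finrank ℂ W + ε) / 2 := by
  have h : LinearMap.IsProj (D.E ε) ((2 : ℂ)⁻¹ • (1 + ε • D.σ)) := ⟨fun w => by
    rw [End.mem_eigenspace_iff]
    simp only [LinearMap.smul_apply, LinearMap.add_apply, End.one_apply, map_smul, map_add]
    rw [← End.mul_apply, D.σ_sq, smul_comm ε, smul_add ε, smul_smul, hε, one_smul, add_comm]
    rfl, fun w hw => by
    rw [End.mem_eigenspace_iff] at hw
    simp only [LinearMap.smul_apply, LinearMap.add_apply, End.one_apply, hw, smul_smul, hε]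
    rw [one_smul, ← two_smul ℂ, smul_smul]; simp⟩
  rw [← h.trace, map_smul, map_add, map_smul, D.trace_σ, LinearMap.trace_one]
  simp [div_eq_inv_mul]

theorem finrank_E_one : finrank ℂ (D.E 1) = finrank ℂ (D.E (-1)) + 1 := by
  have h1 := D.finrank_E (ε := 1) (by simp)
  have h2 := D.finrank_E (ε := -1) (by simp)
  have : (finrank ℂ (D.E 1) : ℂ) = finrank ℂ (D.E (-1)) + 1 := by rw [h1, h2]; ring
  exact_mod_cast this

theorem finrank_E_neg : finrank ℂ W = 2 * finrank ℂ (D.E (-1)) + 1 := by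
  have h2 := D.finrank_E (ε := -1) (by simp)
  have : (finrank ℂ W : ℂ) = 2 * finrank ℂ (D.E (-1)) + 1 := by rw [h2]; ring
  exact_mod_cast this

/-- Normalised intertwiners. -/
def Good (g : G) (T : D.C) : Prop :=
  IsUnit T ∧ D.Int g T.1 ∧ LinearMap.det (D.res 1 T) = LinearMap.det (D.res (-1) T)

omit [FiniteDimensional ℂ W] in
theorem det_res_ne_zero {T : D.C} (h : IsUnit T) (ε : ℂ) : LinearMap.det (D.res ε T) ≠ 0 :=
  ((h.map (D.res ε)).map LinearMap.det).ne_zero

theorem exists_good (g : G) : ∃ T, D.Good g T := by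
  obtain ⟨T, S, h1, h2, hT⟩ := D.exists_int g
  have hc := hT.commute h1 h2
  have hS : D.σ * S = S * D.σ := by
    calc D.σ * S = S * (T * D.σ) * S := by rw [← mul_assoc, h2, one_mul]
      _ = _ := by rw [← hc, mul_assoc, mul_assoc, h1, mul_one]
  let T' : D.C := ⟨T, D.mem_C.2 hc⟩
  have hu : IsUnit T' := ⟨⟨T', ⟨S, D.mem_C.2 hS⟩, Subtype.ext h1, Subtype.ext h2⟩, rfl⟩
  have n1 := D.det_res_ne_zero hu 1
  have n2 := D.det_res_ne_zero hu (-1)
  refine ⟨(LinearMap.det (D.res (-1) T') / LinearMap.det (D.res 1 T')) • T', ?_, fun v => ?_, ?_⟩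
  · rw [Algebra.smul_def]
    exact ((div_ne_zero n2 n1).isUnit.map _).mul hu
  · change (_ • T) * _ = _ * (_ • T)
    rw [smul_mul_assoc, mul_smul_comm, hT]
  · rw [res_smul, res_smul, LinearMap.det_smul, LinearMap.det_smul, finrank_E_one, pow_succ]
    field_simp

theorem Good.unique {D : WeilData W V G} {g : G} {T T' : D.C} (hT : D.Good g T)
    (hT' : D.Good g T') : T' = T := by
  obtain ⟨u, hu⟩ := hT.1
  obtain ⟨a, ha⟩ := hT.2.1.unique hT'.2.1 (S := (u⁻¹ : D.Cˣ).1.1)
    (by rw [← hu]; exact congrArg Subtype.val u.mul_inv)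
    (by rw [← hu]; exact congrArg Subtype.val u.inv_mul)
  have ha' : T' = a • T := Subtype.ext ha
  have h1 := hT'.2.2
  have h2 := D.det_res_ne_zero hT'.1 (-1)
  rw [ha', res_smul, LinearMap.det_smul] at h2
  rw [ha', res_smul, res_smul, LinearMap.det_smul, LinearMap.det_smul, finrank_E_one, pow_succ,
    hT.2.2] at h1
  have : a = 1 := mul_left_cancel₀ h2 (by linear_combination h1)
  rw [ha', this, one_smul]

/-- The Weil representation. -/
noncomputable def ω : G →* D.C where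
  toFun g := (D.exists_good g).choose
  map_one' := (Good.unique ⟨isUnit_one, fun v => by simp, by simp⟩
    (D.exists_good 1).choose_spec)
  map_mul' g h := by
    have h1 := (D.exists_good g).choose_spec
    have h2 := (D.exists_good h).choose_spec
    exact Good.unique ⟨h1.1.mul h2.1, h1.2.1.mul h2.2.1, by
      rw [map_mul, map_mul, map_mul, map_mul, h1.2.2, h2.2.2]⟩ (D.exists_good _).choose_spec

theorem ω_int (g : G) : D.Int g (D.ω g).1 := (D.exists_good g).choose_spec.2.1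

theorem ω_mul_inv (g : G) : (D.ω g).1 * (D.ω g⁻¹).1 = 1 := by
  rw [← Subalgebra.coe_mul, ← map_mul, mul_inv_cancel, map_one]; rfl

theorem exists_eq_of_comm [Fintype V] (htr : ∀ v w : V, v ≠ 0 → w ≠ 0 → ∃ g : G, g • v = w)
    {T : End ℂ W} (h : ∀ g, (D.ω g).1 * T = T * (D.ω g).1) :
    ∃ x y : ℂ, T = x • 1 + y • ∑ v, D.b v := by
  classical
  have key : ∀ (g : G) v, D.b.repr T (g • v) = D.b.repr T v := fun g v => by
    have h1 : T = ∑ w, D.b.repr T w • D.b (g • w) := by
      calc T = (D.ω g).1 * T * (D.ω g⁻¹).1 := by rw [h, mul_assoc, ω_mul_inv, mul_one]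
        _ = _ := by
          conv_lhs => rw [← D.b.sum_repr T]
          rw [Finset.mul_sum, Finset.sum_mul]
          refine Finset.sum_congr rfl fun w _ => ?_
          rw [mul_smul_comm, smul_mul_assoc, D.ω_int g w, mul_assoc, ω_mul_inv, mul_one]
    conv_lhs => rw [h1]
    simp [Finsupp.single_apply]
  by_cases hV : ∃ v₀ : V, v₀ ≠ 0
  · obtain ⟨v₀, hv₀⟩ := hV
    refine ⟨D.b.repr T 0 - D.b.repr T v₀, D.b.repr T v₀, D.b.repr.injective ?_⟩
    ext v
    rw [← D.b_zero]
    rcases eq_or_ne v 0 with rfl | hv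
    · simp [Finsupp.single_apply]
    · obtain ⟨g, rfl⟩ := htr v₀ v hv₀ hv
      simp [Finsupp.single_apply, key, hv]
  · push Not at hV
    refine ⟨D.b.repr T 0, 0, D.b.repr.injective ?_⟩
    ext v
    rw [← D.b_zero, hV v]
    simp

theorem exists_scalar_of_comm [Fintype V] (htr : ∀ v w : V, v ≠ 0 → w ≠ 0 → ∃ g : G, g • v = w)
    (hW : 2 ≤ finrank ℂ W) {T : End ℂ W} (h : ∀ g, (D.ω g).1 * T = T * (D.ω g).1) (ε : ℂ) :
    ∃ a : ℂ, ∀ w ∈ D.E ε, T w = a • w := by
  obtain ⟨x, y, rfl⟩ := D.exists_eq_of_comm htr h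
  obtain ⟨s, t, hst⟩ := D.exists_eq_of_comm htr fun g => (D.mem_C.1 (D.ω g).2).symm
  have ht : t ≠ 0 := by
    rintro rfl
    rw [zero_smul, add_zero] at hst
    have h1 := D.trace_σ
    have h2 := congrArg (LinearMap.trace ℂ W) D.σ_sq
    rw [hst, map_smul, LinearMap.trace_one, smul_eq_mul] at h1
    rw [hst, smul_mul_smul_comm, one_mul, map_smul, LinearMap.trace_one, smul_eq_mul, mul_assoc,
      h1, mul_one] at h2
    rw [h2] at h1
    have h3 : finrank ℂ W * finrank ℂ W = 1 := by exact_mod_cast h1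
    nlinarith
  refine ⟨x + y * ((ε - s) / t), fun w hw => ?_⟩
  rw [End.mem_eigenspace_iff, hst] at hw
  simp only [LinearMap.add_apply, LinearMap.smul_apply, End.one_apply] at hw ⊢
  have : (∑ v, D.b v) w = ((ε - s) / t) • w := by
    rw [div_eq_inv_mul, mul_smul, sub_smul, ← hw, add_sub_cancel_left, smul_smul,
      inv_mul_cancel₀ ht, one_smul]
  rw [this, add_smul, mul_smul]

theorem isIrreducible [Finite V] [Finite G] (htr : ∀ v w : V, v ≠ 0 → w ≠ 0 → ∃ g : G, g • v = w)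
    (hW : 2 ≤ finrank ℂ W) (ε : ℂ) [Nontrivial (D.E ε)] :
    Representation.IsIrreducible ((D.res ε).comp D.ω : Representation ℂ G (D.E ε)) := by
  have := Fintype.ofFinite V
  have := Fintype.ofFinite G
  refine CharDeg.isIrreducible_of_invariant _ fun U hU => ?_
  let U' := U.map (D.E ε).subtype
  have hU' : ∀ g, ∀ w ∈ U', (D.ω g).1 w ∈ U' := by
    rintro g _ ⟨w, hw, rfl⟩
    exact ⟨_, hU g w hw, rfl⟩
  obtain ⟨Q, hQ⟩ := U'.exists_isCompl
  let p₀ : End ℂ W := U'.subtype ∘ₗ U'.projectionOnto Q hQ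
  let p : End ℂ W := ∑ g, (D.ω g).1 * p₀ * (D.ω g⁻¹).1
  have hp1 : ∀ w, p w ∈ U' := fun w => by
    simp only [p, LinearMap.sum_apply, End.mul_apply]
    exact Submodule.sum_mem _ fun g _ => hU' g _ (Subtype.prop _)
  have hp2 : ∀ w ∈ U', p w = (Fintype.card G : ℂ) • w := fun w hw => by
    have : ∀ g, ((D.ω g).1 * p₀ * (D.ω g⁻¹).1) w = w := fun g => by
      have h1 : p₀ ((D.ω g⁻¹).1 w) = (D.ω g⁻¹).1 w :=
        congrArg Subtype.val (Submodule.projectionOnto_apply_left hQ ⟨_, hU' _ w hw⟩)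
      rw [End.mul_apply, End.mul_apply, h1, ← End.mul_apply, ω_mul_inv]; rfl
    simp only [p, LinearMap.sum_apply, this, Finset.sum_const, Finset.card_univ,
      Nat.cast_smul_eq_nsmul]
  obtain ⟨a, ha⟩ := D.exists_scalar_of_comm htr hW (T := p) (fun h => by
    simp only [p, Finset.mul_sum, Finset.sum_mul]
    refine Fintype.sum_equiv (Equiv.mulLeft h) _ _ fun g => ?_
    have : (D.ω (h * g)⁻¹).1 * (D.ω h).1 = (D.ω g⁻¹).1 := by
      rw [← Subalgebra.coe_mul, ← map_mul]; congr 2; group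
    simp only [Equiv.coe_mulLeft, mul_assoc, this]
    rw [map_mul, Subalgebra.coe_mul, mul_assoc]) ε
  rcases eq_or_ne U ⊥ with h | h
  · exact Or.inl h
  obtain ⟨u, hu, hu0⟩ := Submodule.exists_mem_ne_zero_of_ne_bot h
  have ha0 : a ≠ 0 := by
    rintro rfl
    have := (hp2 u ⟨u, hu, rfl⟩).symm.trans (ha u u.2)
    rw [zero_smul, smul_eq_zero] at this
    exact this.elim (by simp) fun e => hu0 (Subtype.ext e)
  refine Or.inr (eq_top_iff.2 fun w _ => ?_)
  have h1 := hp1 w
  rw [ha w w.2, Submodule.smul_mem_iff _ ha0] at h1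
  obtain ⟨w', hw', e⟩ := h1
  exact (Subtype.ext e : w' = w) ▸ hw'

include D in
theorem exists_irreducible [Finite V] [Finite G]
    (htr : ∀ v w : V, v ≠ 0 → w ≠ 0 → ∃ g : G, g • v = w) (hW : 2 ≤ finrank ℂ W) :
    ∃ ρ : Representation ℂ G (Fin ((finrank ℂ W - 1) / 2) → ℂ), ρ.IsIrreducible := by
  have h := D.finrank_E_neg
  have : Nontrivial (D.E (-1)) := Module.nontrivial_of_finrank_pos (R := ℂ) (by omega)
  have h2 : (finrank ℂ W - 1) / 2 = finrank ℂ (D.E (-1)) := by omega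
  rw [h2]
  have := D.isIrreducible htr hW (-1)
  exact ⟨_, CharDeg.finModel_isIrreducible ((D.res (-1)).comp D.ω)⟩

end WeilData

end Abstract

section Schroedinger

variable {F l : Type*} [Field F] [Fintype l] [DecidableEq l]

/-- The Weyl operators. -/
def weyl (ψ : F → ℂ) (v : l ⊕ l → F) : End ℂ ((l → F) → ℂ) where
  toFun f x := ψ ((v ∘ Sum.inr) ⬝ᵥ x + 2⁻¹ * ((v ∘ Sum.inl) ⬝ᵥ (v ∘ Sum.inr))) * f (x + v ∘ Sum.inl)
  map_add' f g := by ext; simp [mul_add]
  map_smul' a f := by ext; simp [mul_left_comm]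

open CfsgLib.Forms in
theorem weyl_mul {ψ : F → ℂ} (hψ : IsChar ψ) (h2 : (2 : F) ≠ 0) (u v : l ⊕ l → F) :
    weyl ψ u * weyl ψ v = ψ (-(2⁻¹ * spB l F u v)) • weyl ψ (u + v) := by
  refine LinearMap.ext fun f => funext fun x => ?_
  have h : spB l F u v = (u ∘ Sum.inr) ⬝ᵥ (v ∘ Sum.inl) - (u ∘ Sum.inl) ⬝ᵥ (v ∘ Sum.inr) := by
    rw [spB_eq_sum, Finset.sum_sub_distrib]; rfl
  have e1 : (u + v) ∘ Sum.inl = u ∘ Sum.inl + v ∘ Sum.inl := rfl
  have e2 : (u + v) ∘ Sum.inr = u ∘ Sum.inr + v ∘ Sum.inr := rfl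
  change ψ _ * (ψ _ * f _) = ψ _ * (ψ _ * f _)
  rw [← mul_assoc, ← mul_assoc, ← hψ.add, ← hψ.add, e1, e2, add_assoc x, h]
  congr 2
  simp only [add_dotProduct, dotProduct_add, dotProduct_comm (v ∘ Sum.inr) (u ∘ Sum.inl),
    dotProduct_comm (v ∘ Sum.inl) (u ∘ Sum.inr)]
  field_simp
  ring

omit [DecidableEq l] in
theorem weyl_zero {ψ : F → ℂ} (hψ : IsChar ψ) : weyl ψ (0 : l ⊕ l → F) = 1 := by
  refine LinearMap.ext fun f => funext fun x => ?_
  change ψ _ * f _ = f x
  simp [hψ.zero]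

open CfsgLib.Forms in
theorem weyl_linearIndependent [Fintype F] {ψ : F → ℂ} (hψ : IsChar ψ) (h2 : (2 : F) ≠ 0) :
    LinearIndependent ℂ (weyl ψ : (l ⊕ l → F) → End ℂ ((l → F) → ℂ)) := by
  have hinv : ∀ v : l ⊕ l → F, weyl ψ v * weyl ψ (-v) = 1 := fun v => by
    rw [weyl_mul hψ h2, map_neg, (spB_isAlt l F).self_eq_zero, add_neg_cancel, weyl_zero hψ]
    simp [hψ.zero]
  let C : (l ⊕ l → F) → End ℂ (End ℂ ((l → F) → ℂ)) := fun t =>
    LinearMap.mulLeft ℂ (weyl ψ t) ∘ₗ LinearMap.mulRight ℂ (weyl ψ (-t))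
  have hw : ∀ s, weyl ψ s ∈ wsp C fun t => ψ (spB l F s t) := fun s t => by
    change weyl ψ t * (weyl ψ s * weyl ψ (-t)) = _
    rw [weyl_mul hψ h2, mul_smul_comm, weyl_mul hψ h2, smul_smul, ← hψ.add, add_neg_cancel_comm_assoc]
    congr 2
    rw [map_add, map_neg, map_neg, (spB_isAlt l F).self_eq_zero, ← (spB_isAlt l F).neg_eq s t]
    field_simp
    ring
  rw [Fintype.linearIndependent_iff]
  intro a ha s
  have := wsp_sum_eq_zero C (fun s t => ψ (spB l F s t)) Finset.univ (fun s _ s' _ e => by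
    have h1 : spB l F s = spB l F s' := hψ.dual_ext (congrFun e)
    refine sub_eq_zero.1 ((spB_nondegenerate l F).1 _ fun t => ?_)
    rw [map_sub, h1, sub_self]; rfl) (fun s => a s • weyl ψ s)
    (fun s _ => Submodule.smul_mem _ _ (hw s)) ha s (Finset.mem_univ _)
  refine (smul_eq_zero.1 this).resolve_right fun h0 => ?_
  have := hinv s
  rw [h0, zero_mul] at this
  exact zero_ne_one this

open CfsgLib.Forms in
/-- The Schroedinger model. -/
noncomputable def spWeil [Fintype F] {ψ : F → ℂ} (hψ : IsChar ψ) (h2 : (2 : F) ≠ 0) :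
    WeilData ((l → F) → ℂ) (l ⊕ l → F) (Matrix.symplecticGroup l F) where
  b := basisOfLinearIndependentOfCardEqFinrank (weyl_linearIndependent hψ h2) (by
    classical
    simp [finrank_linearMap, pow_add])
  c u v := ψ (-(2⁻¹ * spB l F u v))
  σ := LinearMap.funLeft ℂ ℂ Neg.neg
  b_zero := by simp [weyl_zero hψ]
  b_mul u v := by simp [weyl_mul hψ h2]
  c_smul g u v := by rw [Symp.spB_smul_smul]
  σ_sq := LinearMap.ext fun f => funext fun x => by simp [LinearMap.funLeft_apply]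
  σ_b v := by
    simp only [coe_basisOfLinearIndependentOfCardEqFinrank]
    refine LinearMap.ext fun f => funext fun x => ?_
    have e1 : (-v) ∘ Sum.inl = -(v ∘ Sum.inl) := rfl
    have e2 : (-v) ∘ Sum.inr = -(v ∘ Sum.inr) := rfl
    change ψ _ * f _ = ψ _ * f _
    simp [e1, e2, add_comm]
  trace_σ := by
    classical
    rw [LinearMap.trace_eq_matrix_trace ℂ (Pi.basisFun ℂ (l → F)), Matrix.trace,
      Finset.sum_eq_single 0]
    · simp [LinearMap.funLeft_apply]
    · intro x _ hx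
      have : -x ≠ x := fun e => hx (by
        have h3 : (2 : F) • x = 0 := by rw [two_smul]; nth_rw 1 [← e]; simp
        exact (smul_eq_zero.1 h3).resolve_left h2)
      simp [LinearMap.funLeft_apply, this]
    · simp

theorem exists_isChar_complex (F : Type*) [Field F] [Finite F] : ∃ ψ : F → ℂ, IsChar ψ := by
  obtain ⟨ψ, hψ⟩ := AddChar.exists_apply_ne_zero.2 (one_ne_zero (α := F))
  exact ⟨ψ, ψ.map_add_eq_mul, ψ.map_zero_eq_one, 1, hψ⟩

theorem exists_weil [Fintype F] [Nonempty l] (h2 : (2 : F) ≠ 0) :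
    ∃ ρ : Representation ℂ (Matrix.symplecticGroup l F)
      (Fin ((Fintype.card F ^ Fintype.card l - 1) / 2) → ℂ), ρ.IsIrreducible := by
  classical
  obtain ⟨ψ, hψ⟩ := exists_isChar_complex F
  have h : finrank ℂ ((l → F) → ℂ) = Fintype.card F ^ Fintype.card l := by simp
  rw [← h]
  exact (spWeil hψ h2).exists_irreducible (fun v w hv hw => Symp.exists_smul_eq hv hw) (by
    rw [h]
    exact Nat.one_lt_pow Fintype.card_ne_zero Fintype.one_lt_card)

end Schroedinger

end CfsgLib.LS
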